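/-
Definitions for S2930 (3-minimal groups with F* = Alt(n)).  Architect: helper6.
-/
import Mathlib

set_option autoImplicit false

namespace Cfsg.Agent.Lib.Helper06.PMinAlt

open Equiv Equiv.Perm

variable {α : Type*}

/-- The subgroup of the permutations preserving the relation `r`. -/
def relStab (r : α → α → Prop) : Subgroup (Perm α) where
  carrier := {g | ∀ x y, r (g x) (g y) ↔ r x y}
  mul_mem' := by
    intro a b ha hb x y
    show r (a (b x)) (a (b y)) ↔ r x y
    rw [ha, hb]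
  one_mem' := fun _ _ => Iff.rfl
  inv_mem' := by
    intro a ha x y
    have h := ha (a⁻¹ x) (a⁻¹ y)
    have e1 : a (a⁻¹ x) = x := by simp
    have e2 : a (a⁻¹ y) = y := by simp
    rw [e1, e2] at h
    exact h.symm

theorem mem_relStab {r : α → α → Prop} {g : Perm α} :
    g ∈ relStab r ↔ ∀ x y, r (g x) (g y) ↔ r x y := Iff.rfl

/-- `y` and `y'` lie in the same `S`-orbit. -/
def orbRel (S : Subgroup (Perm α)) (y y' : α) : Prop := ∃ s ∈ S, s y = y'

/-- The block relation on the `S`-orbit of `x` attached to a subgroup `L` with `S_x ≤ L ≤ S`: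
`y = s x` and `y' = s (l x)` lie in the same translate of the block `L x`. -/
def blockRel (S : Subgroup (Perm α)) (x : α) (L : Subgroup (Perm α)) (y y' : α) : Prop :=
  ∃ s ∈ S, ∃ l ∈ L, y = s x ∧ y' = s (l x)

/-- Two `S`-invariant equivalence relations `r₁ ≤ r₂`, the classes of `r₁` are triples, some `r₂`-class
is bigger than the `r₁`-class inside it, and `r₂` has at least two classes. -/
structure GoodPair [Fintype α] (S : Subgroup (Perm α)) (r₁ r₂ : α → α → Prop) : Prop where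
  eqv₁ : Equivalence r₁
  eqv₂ : Equivalence r₂
  inv₁ : ∀ s ∈ S, ∀ x y, r₁ x y → r₁ (s x) (s y)
  inv₂ : ∀ s ∈ S, ∀ x y, r₂ x y → r₂ (s x) (s y)
  le : ∀ x y, r₁ x y → r₂ x y
  card₁ : ∀ x, {y | r₁ x y}.ncard = 3
  room : ∃ x y, r₂ x y ∧ ¬ r₁ x y
  ne_top : ∃ x y, ¬ r₂ x y

/-- `S` lies in two proper subgroups of the alternating group which together generate it. -/
def TwoOver [Fintype α] [DecidableEq α] (S : Subgroup (Perm α)) : Prop :=
  ∃ M₁ M₂ : Subgroup (Perm α), S ≤ M₁ ∧ S ≤ M₂ ∧ M₁ ≤ alternatingGroup α ∧ M₂ ≤ alternatingGroup α ∧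
    M₁ ≠ alternatingGroup α ∧ M₂ ≠ alternatingGroup α ∧ alternatingGroup α ≤ M₁ ⊔ M₂

end Cfsg.Agent.Lib.Helper06.PMinAlt
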