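/-
S2930 leaf G3 (architect's parallel copy): transport `Cfsg.IsPMinimal` along a group isomorphism.
-/
import Mathlib
import Cfsg.Prelude.Def_LocalEven

set_option autoImplicit false

namespace Cfsg.Agent.Lib.Helper06.PMinAlt

theorem isPMinimal_of_mulEquiv {X Y : Type*} [Group X] [Group Y] (p : ℕ) (e : X ≃* Y)
    (hX : Cfsg.IsPMinimal p X) : Cfsg.IsPMinimal p Y := by
  intro S
  have hrange : (S : Subgroup Y) ≤ e.toMonoidHom.range := by
    intro y _
    exact ⟨e.symm y, by simp⟩
  let S' : Sylow p X := S.comapOfInjective e.toMonoidHom e.injective hrange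
  have hS' : (S' : Subgroup X) = (S : Subgroup Y).comap e.toMonoidHom := rfl
  obtain ⟨hnn, M, ⟨hMc, hSM⟩, huniq⟩ := hX S'
  have hsurj : Function.Surjective e.toMonoidHom := e.surjective
  refine ⟨?_, ?_⟩
  · intro hn
    apply hnn
    rw [hS']
    exact hn.comap _
  · refine ⟨M.map e.toMonoidHom, ⟨?_, ?_⟩, ?_⟩
    · exact (OrderIso.isCoatom_iff e.mapSubgroup M).2 hMc
    · intro y hy
      refine ⟨e.symm y, hSM ?_, by simp⟩
      rw [hS', Subgroup.mem_comap]
      simpa using hy
    · rintro M'' ⟨hc, hle⟩
      have h1 : IsCoatom (M''.comap e.toMonoidHom) := by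
        have h2 : e.mapSubgroup (M''.comap e.toMonoidHom) = M'' := by
          show (M''.comap e.toMonoidHom).map e.toMonoidHom = M''
          exact Subgroup.map_comap_eq_self_of_surjective hsurj M''
        rw [← OrderIso.isCoatom_iff e.mapSubgroup, h2]
        exact hc
      have h3 : (S' : Subgroup X) ≤ M''.comap e.toMonoidHom := by
        rw [hS']
        exact Subgroup.comap_mono hle
      have h4 := huniq _ ⟨h1, h3⟩
      rw [← h4]
      exact (Subgroup.map_comap_eq_self_of_surjective hsurj M'').symm

end Cfsg.Agent.Lib.Helper06.PMinAlt
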