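/-
S2930 glue: X finite 3-minimal, F*(X) ≅ Alt(n), n ≥ 5  ⟹  X = F*(X) and n ∈ {6, 9, 3^a+1 (a ≥ 2)}.
Architecture by helper6; see notes/S2930_keystones.lean.txt.
-/
import Mathlib
import Cfsg.Prelude.Def_Local
import Cfsg.Prelude.Def_LocalEven
import Cfsg.Agent.Lib.Helper06.PMinAlt.Defs
import Cfsg.Agent.Lib.Helper06.PMinAlt.G3
import Cfsg.Agent.Lib.Helper30.FStar
import Cfsg.Agent.Lib.Helper16.PMinAltG1
import Cfsg.Agent.Lib.Helper82.PMinAltG2
import Cfsg.Agent.Lib.Helper82.PMinAltG4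
import Cfsg.Agent.Lib.Helper74.PMinAltC2
import Cfsg.Agent.Lib.Helper56.PMinAltC4
import Cfsg.Agent.Lib.Helper18.PMinAltC5a
import Cfsg.Agent.Lib.Helper96.PMinAltC5b
import Cfsg.Agent.Lib.Helper28.PMinAltC9
import Cfsg.Agent.Lib.Helper56.PMinAltC10
import Cfsg.Agent.Lib.Helper85.PMinAltC11

set_option autoImplicit false

namespace Cfsg.Agent.Lib.Helper06.PMinAlt

open Equiv Equiv.Perm

section Perm
variable {α : Type*} [Fintype α] [DecidableEq α]

theorem le_relStab_of_inv (S : Subgroup (Perm α)) (r : α → α → Prop)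
    (hinv : ∀ s ∈ S, ∀ x y, r x y → r (s x) (s y)) : S ≤ relStab r := by
  intro s hs x y
  constructor
  · intro h
    have := hinv s⁻¹ (S.inv_mem hs) _ _ h
    simpa using this
  · exact hinv s hs x y

/-- the third point of a triple class -/
theorem exists_two_others (r : α → α → Prop) (hr : Equivalence r) (x : α) (h3 : {y | r x y}.ncard = 3) :
    ∃ a b, r x a ∧ r x b ∧ x ≠ a ∧ x ≠ b ∧ a ≠ b := by
  have hx : x ∈ {y | r x y} := hr.refl x
  have hfin : ({y | r x y} : Set α).Finite := Set.toFinite _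
  have h2 : ({y | r x y} \ {x}).ncard = 2 := by
    rw [Set.ncard_diff_singleton_of_mem hx, h3]
  obtain ⟨a, b, hab, hset⟩ := Set.ncard_eq_two.1 h2
  have ha : a ∈ {y | r x y} \ {x} := by rw [hset]; simp
  have hb : b ∈ {y | r x y} \ {x} := by rw [hset]; simp
  refine ⟨a, b, ha.1, hb.1, ?_, ?_, hab⟩
  · intro h; exact ha.2 (by simp [h])
  · intro h; exact hb.2 (by simp [h])

theorem twoOver_of_goodPair (S : Subgroup (Perm α)) (hSA : S ≤ alternatingGroup α)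
    (r₁ r₂ : α → α → Prop) (h : GoodPair S r₁ r₂) : TwoOver S := by
  obtain ⟨x₀, y₀, h20, h10⟩ := h.room
  obtain ⟨a, b, hra, hrb, hxa, hxb, hab⟩ := exists_two_others r₁ h.eqv₁ x₀ (h.card₁ x₀)
  have hay : a ≠ y₀ := by rintro rfl; exact h10 hra
  have hby : b ≠ y₀ := by rintro rfl; exact h10 hrb
  have hxy : x₀ ≠ y₀ := by rintro rfl; exact h10 (h.eqv₁.refl _)
  -- a point outside the r₂-class of x₀
  obtain ⟨z, hz⟩ : ∃ z, ¬ r₂ x₀ z := by
    obtain ⟨p, q, hpq⟩ := h.ne_top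
    by_contra hcon
    push Not at hcon
    exact hpq (h.eqv₂.trans (h.eqv₂.symm (hcon p)) (hcon q))
  have hxz : x₀ ≠ z := by rintro rfl; exact hz (h.eqv₂.refl _)
  have haz : a ≠ z := by rintro rfl; exact hz (h.le _ _ hra)
  have hbz : b ≠ z := by rintro rfl; exact hz (h.le _ _ hrb)
  have hyz : y₀ ≠ z := by rintro rfl; exact hz h20
  refine ⟨relStab r₂ ⊓ alternatingGroup α, relStab r₁ ⊓ alternatingGroup α,
    le_inf (le_relStab_of_inv S r₂ h.inv₂) hSA, le_inf (le_relStab_of_inv S r₁ h.inv₁) hSA,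
    inf_le_right, inf_le_right, ?_, ?_, Cfsg.Agent.Lib.Helper56.PMinAlt.alternatingGroup_le_sup_of_goodPair S r₁ r₂ h⟩
  · intro heq
    have hle : alternatingGroup α ≤ relStab r₂ := by
      rw [← heq]; exact inf_le_left
    exact Cfsg.Agent.Lib.Helper74.PMinAlt.not_alternatingGroup_le_relStab r₂ x₀ a z b hxa hxz hxb haz hab hbz.symm (h.le _ _ hra) hz hle
  · intro heq
    have hle : alternatingGroup α ≤ relStab r₁ := by
      rw [← heq]; exact inf_le_left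
    exact Cfsg.Agent.Lib.Helper74.PMinAlt.not_alternatingGroup_le_relStab r₁ x₀ a y₀ b hxa hxy hxb hay hab hby.symm hra h10 hle

/-- **CORE.** -/
theorem core (hα : 5 ≤ Fintype.card α) (S : Subgroup (Perm α)) (hS : IsPGroup 3 S)
    (hSA : S ≤ alternatingGroup α) :
    (Fintype.card α = 6 ∨ Fintype.card α = 9 ∨ ∃ a, 2 ≤ a ∧ Fintype.card α = 3 ^ a + 1) ∨ TwoOver S := by
  rcases Cfsg.Agent.Lib.Helper85.PMinAlt.core_split hα S hS with ⟨x, y, z, hxy, hxz, hyz⟩ | ⟨x₁, x₂, hd, hc, h1, h2⟩ | ⟨htr, hc⟩ | hl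
  · right
    obtain ⟨Γ₁, Γ₂, h1, h2, hne1, hne2, hdisj, hrest, hc1, hc2⟩ :=
      Cfsg.Agent.Lib.Helper96.PMinAlt.exists_invariant_sets_of_three_orbits hα S x y z hxy hxz hyz
    exact Cfsg.Agent.Lib.Helper18.PMinAlt.twoOver_of_invariant_sets S hSA Γ₁ Γ₂ h1 h2 hne1 hne2 hdisj hrest hc1 hc2
  · right
    obtain ⟨r₁, r₂, hg⟩ := Cfsg.Agent.Lib.Helper28.PMinAlt.exists_goodPair_two_orbits S hS x₁ x₂ hd hc h1 h2
    exact twoOver_of_goodPair S hSA r₁ r₂ hg
  · right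
    obtain ⟨r₁, r₂, hg⟩ := Cfsg.Agent.Lib.Helper56.PMinAlt.exists_goodPair_transitive S hS htr hc
    exact twoOver_of_goodPair S hSA r₁ r₂ hg
  · left; exact hl

end Perm

/-- Alt(n) 3-minimal ⟹ n in the list. -/
theorem list_of_isPMinimal_alt (n : ℕ) (hn : 5 ≤ n)
    (hA : Cfsg.IsPMinimal 3 ↥(alternatingGroup (Fin n))) :
    n = 6 ∨ n = 9 ∨ ∃ a : ℕ, 2 ≤ a ∧ n = 3 ^ a + 1 := by
  haveI : Fact (Nat.Prime 3) := ⟨Nat.prime_three⟩
  let A : Subgroup (Perm (Fin n)) := alternatingGroup (Fin n)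
  let P : Sylow 3 ↥A := default
  let S : Subgroup (Perm (Fin n)) := (P : Subgroup ↥A).map A.subtype
  have hSp : IsPGroup 3 S := P.isPGroup'.map A.subtype
  have hSA : S ≤ alternatingGroup (Fin n) := Subgroup.map_subtype_le _
  rcases core (α := Fin n) (by simpa using hn) S hSp hSA with hl | hT
  · simpa using hl
  · exfalso
    obtain ⟨M₁, M₂, h1, h2, hA1, hA2, hne1, hne2, hsup⟩ := hT
    have hPle : ∀ M : Subgroup (Perm (Fin n)), S ≤ M → (P : Subgroup ↥A) ≤ M.subgroupOf A := by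
      intro M hM x hx
      rw [Subgroup.mem_subgroupOf]
      exact hM ⟨x, hx, rfl⟩
    have hnt : ∀ M : Subgroup (Perm (Fin n)), M ≤ A → M ≠ A → M.subgroupOf A ≠ ⊤ := by
      intro M hMA hne htop
      apply hne
      apply le_antisymm hMA
      exact Subgroup.subgroupOf_eq_top.1 htop
    have hs : M₁.subgroupOf A ⊔ M₂.subgroupOf A = ⊤ := by
      rw [← Subgroup.subgroupOf_sup hA1 hA2]
      exact Subgroup.subgroupOf_eq_top.2 hsup
    exact Cfsg.Agent.Lib.Helper82.PMinAlt.not_isPMinimal_of_sup_eq_top 3 P _ _ (hPle M₁ h1) (hPle M₂ h2) (hnt M₁ hA1 hne1)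
      (hnt M₂ hA2 hne2) hs hA

/-- **S2930.** -/
theorem main {X : Type*} [Group X] [Finite X] (hX : Cfsg.IsPMinimal 3 X) (n : ℕ) (hn : 5 ≤ n)
    (hF : Nonempty (↥(Cfsg.generalizedFittingSubgroup X) ≃* ↥(alternatingGroup (Fin n)))) :
    Cfsg.generalizedFittingSubgroup X = ⊤ ∧ (n = 6 ∨ n = 9 ∨ ∃ a : ℕ, 2 ≤ a ∧ n = 3 ^ a + 1) := by
  haveI : Fact (Nat.Prime 3) := ⟨Nat.prime_three⟩
  haveI hn' : (Cfsg.generalizedFittingSubgroup X).Normal := Cfsg.Agent.Lib.Helper30.genFitting_normal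
  have hK : Cfsg.generalizedFittingSubgroup X = ⊤ := by
    apply Cfsg.Agent.Lib.Helper82.PMinAlt.eq_top_of_isPMinimal_of_sylow_le 3 hX
    intro S s hs
    obtain ⟨k, hk⟩ := S.isPGroup' ⟨s, hs⟩
    have hk' : s ^ 3 ^ k = 1 := by
      have := congrArg Subtype.val hk
      simpa using this
    exact Cfsg.Agent.Lib.Helper16.PMinAlt.mem_genFitting_of_pow_three n hn hF s k hk'
  refine ⟨hK, ?_⟩
  obtain ⟨e⟩ := hF
  have e' : X ≃* ↥(alternatingGroup (Fin n)) :=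
    (Subgroup.topEquiv.symm.trans (MulEquiv.subgroupCongr hK.symm)).trans e
  exact list_of_isPMinimal_alt n hn (isPMinimal_of_mulEquiv 3 e' hX)

end Cfsg.Agent.Lib.Helper06.PMinAlt
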